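import Groth.Agent.S9690
import Groth.Agent.H17.NormalNormalizationScheme
import Groth.Agent.H17.AssPush
import Groth.Prelude.Def_Curv2

/-! Characterisation of the normalization of an integral scheme. -/

set_option autoImplicit false
set_option backward.isDefEq.respectTransparency false
universe u
open CategoryTheory AlgebraicGeometry

namespace Groth.Agent.H06Norm

/-- `f` is birational in the sense of one generic point and an isomorphism of local rings there. -/
def IsBirAt {X Y : Scheme.{u}} [IrreducibleSpace ↥X] (f : Y ⟶ X) : Prop :=
  ∃ _ : IrreducibleSpace ↥Y, f.base ⁻¹' {genericPoint X} = {genericPoint Y} ∧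
    IsIso (f.stalkMap (genericPoint Y))

theorem isNormalScheme_Spec_isField (R : CommRingCat.{u}) (h : IsField R) :
    Pi1.IsNormalScheme (Spec R) := fun y => by
  letI := h.toField
  let e := (IsLocalization.atUnits R y.asIdeal.primeCompl
    (fun a ha => isUnit_iff_ne_zero.mpr fun h0 => ha (h0 ▸ Ideal.zero_mem _))
    (S := Localization.AtPrime y.asIdeal)).toRingEquiv.trans
      (Spec.stalkIso R y).symm.commRingCatIsoToRingEquiv
  exact ⟨e.symm.toMulEquiv.isDomain _, IsIntegrallyClosed.of_equiv e⟩

theorem subsingleton_Spec_isField (R : CommRingCat.{u}) (h : IsField R) :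
    Subsingleton ↥(Spec R) := by
  letI := h.toField
  exact inferInstanceAs (Subsingleton (PrimeSpectrum R))

theorem isReduced_of_isNormalScheme {X : Scheme.{u}} (h : Pi1.IsNormalScheme X) : IsReduced X := by
  haveI : ∀ x : X, _root_.IsReduced (X.presheaf.stalk x) := fun x => by
    haveI := (h x).1
    infer_instance
  exact isReduced_of_isReduced_stalk X

theorem exists_specStalk_iso {X : Scheme.{u}} (x y : X) (h : x = y) :
    ∃ i : Spec (X.presheaf.stalk y) ≅ Spec (X.presheaf.stalk x),
      i.hom ≫ X.fromSpecStalk x = X.fromSpecStalk y := by
  subst h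
  exact ⟨Iso.refl _, Category.id_comp _⟩

variable (X : Scheme.{u}) [IsIntegral X]
  [QuasiCompact (X.fromSpecStalk (genericPoint X))] [QuasiSeparated (X.fromSpecStalk (genericPoint X))]

theorem isNormalScheme_normalization : Pi1.IsNormalScheme (Curv2.normalization X) := by
  have hK : IsField (X.presheaf.stalk (genericPoint X)) := Field.toIsField X.functionField
  haveI := subsingleton_Spec_isField _ hK
  exact (H17.NormalNormalizationScheme.normalization_normal _ (isNormalScheme_Spec_isField _ hK)
    (locallyFinite_of_finite _)).1

theorem isIntegralHom_normalizationι : IsIntegralHom (Curv2.normalizationι X) :=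
  inferInstanceAs (IsIntegralHom (X.fromSpecStalk (genericPoint X)).fromNormalization)

theorem isBirAt_normalizationι : IsBirAt (Curv2.normalizationι X) := by
  set g := X.fromSpecStalk (genericPoint X) with hg
  haveI : IsIntegralHom (Curv2.normalizationι X) := isIntegralHom_normalizationι X
  haveI : IsIntegral (Curv2.normalization X) := inferInstanceAs (IsIntegral g.normalization)
  refine ⟨inferInstance, ?_⟩
  haveI := subsingleton_Spec_isField (X.presheaf.stalk (genericPoint X)) (Field.toIsField X.functionField)
  let c : ↥(Spec (X.presheaf.stalk (genericPoint X))) := IsLocalRing.closedPoint _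
  have hgc : g c = genericPoint X := X.fromSpecStalk_closedPoint
  have hp : g.toNormalization c = genericPoint ↥g.normalization := by
    have hr : Set.range g.toNormalization = {g.toNormalization c} := by
      ext y
      constructor
      · rintro ⟨z, rfl⟩
        rw [Subsingleton.elim z c]
        rfl
      · rintro rfl
        exact ⟨c, rfl⟩
    have hd : closure (Set.range g.toNormalization) = Set.univ := g.toNormalization.denseRange.closure_eq
    rw [hr] at hd
    exact (IsGenericPoint.eq (show IsGenericPoint _ Set.univ from hd) (genericPoint_spec _))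
  have hιp : Curv2.normalizationι X (g.toNormalization c) = genericPoint X := by
    show (g.toNormalization ≫ g.fromNormalization) c = _
    rw [Scheme.Hom.toNormalization_fromNormalization, hgc]
  have hfib : (Curv2.normalizationι X).base ⁻¹' {genericPoint X} = {genericPoint ↥(Curv2.normalization X)} := by
    ext q
    constructor
    · intro hq
      have h1 : genericPoint ↥g.normalization ⤳ q := (genericPoint_spec _).specializes trivial
      refine (H17.AssPts.eq_of_specializes_of_map_eq (Curv2.normalizationι X) h1 ?_).symm
      rw [← hp]
      exact hιp.trans (Set.mem_singleton_iff.1 hq).symm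
    · rintro rfl
      show Curv2.normalizationι X (genericPoint ↥g.normalization) = genericPoint X
      rw [← hp, hιp]
  refine ⟨hfib, ?_⟩
  show IsIso (g.fromNormalization.stalkMap (genericPoint ↥g.normalization))
  rw [← hp]
  haveI : IsIso ((g.toNormalization ≫ g.fromNormalization).stalkMap c) := by
    rw [Scheme.Hom.toNormalization_fromNormalization]
    have hF0 : IsField (X.presheaf.stalk (g c)) := by
      rw [hgc]; exact Field.toIsField X.functionField
    letI := hF0.toField
    exact (ConcreteCategory.isIso_iff_bijective _).mpr ⟨RingHom.injective _, g.stalkMap_surjective c⟩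
  rw [Scheme.Hom.stalkMap_comp] at this
  have hb := ConcreteCategory.bijective_of_isIso
    (g.fromNormalization.stalkMap (g.toNormalization c) ≫ g.toNormalization.stalkMap c)
  have hF : IsField (g.normalization.presheaf.stalk (g.toNormalization c)) := by
    rw [hp]
    exact Field.toIsField g.normalization.functionField
  letI := hF.toField
  have hinj : Function.Injective (g.toNormalization.stalkMap c).hom := RingHom.injective _
  rw [ConcreteCategory.isIso_iff_bijective]
  refine ⟨fun a b hab => hb.1 ?_, fun y => ?_⟩
  · simp only [CommRingCat.comp_apply, hab]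
  · obtain ⟨a, ha⟩ := hb.2 (g.toNormalization.stalkMap c y)
    exact ⟨a, hinj (by simpa [CommRingCat.comp_apply] using ha)⟩

theorem criterion {Y : Scheme.{u}} (f : Y ⟶ X) :
    (∃ e : Y ≅ Curv2.normalization X, e.hom ≫ Curv2.normalizationι X = f) ↔
      Pi1.IsNormalScheme Y ∧ IsIntegralHom f ∧ IsBirAt f := by
  constructor
  · rintro ⟨e, rfl⟩
    haveI := isIntegralHom_normalizationι X
    obtain ⟨hi, hfib, hst⟩ := isBirAt_normalizationι X
    refine ⟨fun y => ?_, inferInstance, ?_⟩
    · let σ := (asIso (e.hom.stalkMap y)).commRingCatIsoToRingEquiv
      haveI := (isNormalScheme_normalization X (e.hom y)).1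
      haveI := (isNormalScheme_normalization X (e.hom y)).2
      exact ⟨σ.symm.toMulEquiv.isDomain _, IsIntegrallyClosed.of_equiv σ⟩
    · haveI hY : IrreducibleSpace ↥Y := by
        rw [irreducibleSpace_def, Set.top_eq_univ, ← Set.range_eq_univ.mpr (Scheme.homeoOfIso e).symm.surjective,
          ← Set.image_univ]
        exact ((irreducibleSpace_def _).1 inferInstance).image _
          (Scheme.homeoOfIso e).symm.continuous.continuousOn
      have hη : e.hom (genericPoint Y) = genericPoint ↥(Curv2.normalization X) :=
        genericPoint_eq_of_isOpenImmersion e.hom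
      refine ⟨hY, ?_, ?_⟩
      · ext y
        show Curv2.normalizationι X (e.hom y) = _ ↔ _
        constructor
        · intro h
          have : e.hom y = genericPoint ↥(Curv2.normalization X) := by
            have h2 : e.hom y ∈ (Curv2.normalizationι X).base ⁻¹' {genericPoint X} := h
            rwa [hfib] at h2
          exact e.hom.isOpenEmbedding.injective (this.trans hη.symm)
        · rintro rfl
          have h2 : e.hom (genericPoint Y) ∈ (Curv2.normalizationι X).base ⁻¹' {genericPoint X} := by
            rw [hfib, hη]; rfl
          exact h2
      · haveI : IsIso ((Curv2.normalizationι X).stalkMap (e.hom (genericPoint Y))) := by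
          rw [hη]; exact hst
        rw [Scheme.Hom.stalkMap_comp]
        infer_instance
  · rintro ⟨hY, hint, hirr, hfib, hst⟩
    haveI := isReduced_of_isNormalScheme hY
    haveI := isIntegralHom_normalizationι X
    have hfη : f (genericPoint Y) = genericPoint X := by
      have : genericPoint Y ∈ f.base ⁻¹' {genericPoint X} := hfib.symm ▸ rfl
      exact this
    have hcomp : ∀ z : Y, closure {z} ∈ irreducibleComponents ↥Y → f.base z = genericPoint ↥X := by
      intro z hz
      rw [irreducibleComponents_eq_singleton, Set.mem_singleton_iff] at hz
      have : z = genericPoint Y := IsGenericPoint.eq (show IsGenericPoint z Set.univ from hz) (genericPoint_spec _)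
      rw [this]; exact hfη
    obtain ⟨h, hh, -⟩ := S9690.result X f hY hcomp
    obtain ⟨i, hi⟩ := exists_specStalk_iso (f (genericPoint Y)) (genericPoint X) hfη
    let s : Spec (X.presheaf.stalk (genericPoint X)) ⟶ Y :=
      i.hom ≫ Spec.map (inv (f.stalkMap (genericPoint Y))) ≫ Y.fromSpecStalk _
    have hs : X.fromSpecStalk (genericPoint X) = s ≫ f := by
      simp only [s, Category.assoc, ← Scheme.SpecMap_stalkMap_fromSpecStalk, ← Spec.map_comp_assoc,
        IsIso.hom_inv_id, Spec.map_id, Category.id_comp, hi]
    haveI : IsDominant s := by
      have hd : IsDominant (Y.fromSpecStalk (genericPoint Y)) := by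
        rw [isDominant_iff, DenseRange, dense_iff_closure_eq, ← Set.univ_subset_iff,
          ← (genericPoint_spec ↥Y).def]
        refine closure_mono (Set.singleton_subset_iff.2 ⟨IsLocalRing.closedPoint _, ?_⟩)
        exact Scheme.fromSpecStalk_closedPoint
      haveI : IsDominant (i.hom ≫ Spec.map (inv (f.stalkMap (genericPoint Y)))) := inferInstance
      show IsDominant (i.hom ≫ Spec.map (inv (f.stalkMap (genericPoint Y))) ≫ Y.fromSpecStalk _)
      rw [← Category.assoc]
      infer_instance
    let g : Curv2.normalization X ⟶ Y := (X.fromSpecStalk (genericPoint X)).normalizationDesc s f hs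
    have hg1 : (X.fromSpecStalk (genericPoint X)).toNormalization ≫ g = s :=
      Scheme.Hom.toNormalization_normalizationDesc _ _ _ _
    have hg2 : g ≫ f = Curv2.normalizationι X := Scheme.Hom.normalizationDesc_comp _ _ _ _
    have hsh : s ≫ h = (X.fromSpecStalk (genericPoint X)).toNormalization := by
      have hK : IsField (X.presheaf.stalk (genericPoint X)) := Field.toIsField X.functionField
      haveI := subsingleton_Spec_isField _ hK
      refine (S9690.result X (X.fromSpecStalk (genericPoint X)) (isNormalScheme_Spec_isField _ hK)
        (fun z _ => ?_)).unique (by rw [Category.assoc, hh, ← hs]) (Scheme.Hom.toNormalization_fromNormalization _)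
      rw [Subsingleton.elim z (IsLocalRing.closedPoint _)]
      exact Scheme.fromSpecStalk_closedPoint
    refine ⟨⟨h, g, ?_, ?_⟩, hh⟩
    · refine ext_of_isDominant_of_isSeparated f (by rw [Category.assoc, hg2, hh, Category.id_comp]) s ?_
      rw [Category.comp_id, ← Category.assoc, hsh, hg1]
    · refine Scheme.Hom.normalization.hom_ext (X.fromSpecStalk (genericPoint X)) _ _ (Curv2.normalizationι X) ?_ ?_ ?_
      · rw [← Category.assoc, hg1, hsh]
        exact (Category.comp_id _).symm
      · rw [Category.assoc, hh, hg2]; rfl
      · exact Category.id_comp _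

end Groth.Agent.H06Norm
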